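import Cfsg.Agent.Lib.Helper9.TC2Pack

set_option autoImplicit false
set_option maxRecDepth 100000

namespace Cfsg.Agent.Helper9.TCData.M11CX
open Cfsg.Agent.Helper9.TC2
noncomputable def entT_0 : BT := (BT.node 4 (BT.node 2 (BT.leaf 0x305) (BT.leaf 0x211)) (BT.node 6 (BT.leaf 0x51d) (BT.leaf 0x819)))

noncomputable def cerT_0 : BT := (BT.node 4 (BT.node 2 (BT.leaf 0x10) (BT.leaf 0x22)) (BT.node 6 (BT.leaf 0x99) (BT.leaf 0x22)))

noncomputable def lkT_0 : BT := (BT.leaf 0x900)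

noncomputable def lcT_0 : BT := (BT.leaf 0x2400)

noncomputable def pnT_0 : BT := (BT.leaf 0x0)

noncomputable def clsT_0 : BT := (BT.leaf 0x0)

noncomputable def repT_0 : BT := (BT.leaf 0x0)

noncomputable def tauT_0 : BT := (BT.node 4 (BT.node 2 (BT.leaf 0x0) (BT.leaf 0x0)) (BT.node 6 (BT.leaf 0x0) (BT.leaf 0x0)))


end Cfsg.Agent.Helper9.TCData.M11CX
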