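import Cfsg.Agent.Lib.Helper9.TCData.M11CX.Main

set_option autoImplicit false
set_option maxRecDepth 1000000

namespace Cfsg.Agent.Helper9.TCData.M11CX
open Cfsg.Agent.Helper9.TC2

theorem e0_0 : allRange 0 2 (fun u => chkE tab 0 u) = true := by decide +kernel

theorem e1_0 : allRange 0 2 (fun u => chkE tab 1 u) = true := by decide +kernel

theorem e2_0 : allRange 0 2 (fun u => chkE tab 2 u) = true := by decide +kernel

theorem e3_0 : allRange 0 2 (fun u => chkE tab 3 u) = true := by decide +kernel


end Cfsg.Agent.Helper9.TCData.M11CX
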